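import Groth.Agent.Lib.CBC10.Rows0
import Groth.Agent.Lib.LiftFib11.Unit0
import Groth.Agent.Lib.GrpOmega.Sections
import Groth.Agent.Lib.RankLoc10.Criterion
import Groth.Agent.Lib.RankLoc10.Triv
import Groth.Prelude.Def_ModelsG

/-!
# Families of curves whose functions on each fibre are the residue field

For a flat proper morphism of finite presentation with fibres of dimension at most one and
`H⁰(X_s, O) = κ(s)`, `O_S = f_* O_X` universally, `R¹ f_* O_X` is finite locally free and
`R^q f_* O_X = 0` for `q ≥ 2`, over any base.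
-/

set_option autoImplicit false
set_option linter.style.haveILetI false
set_option maxHeartbeats 1000000
set_option backward.isDefEq.respectTransparency false
set_option backward.isDefEq.respectTransparency.types false

universe u

open CategoryTheory CategoryTheory.Limits AlgebraicGeometry TopologicalSpace Opposite Groth.Agent.ModLimH13

noncomputable section

namespace Groth.Agent.CurveR1_10

open Groth.Agent.M1 Groth.Agent.P1Split Groth.Agent.CBC10

variable {X S : Scheme.{u}} (f : X ⟶ S)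

theorem isInvertible_structure : PicF.IsInvertible (Coh.structureModule X) := fun _ =>
  ⟨⊤, trivial, ⟨Scheme.Modules.restrictUnitIso _⟩⟩

theorem isFP_structure : CohB1.IsFP (Coh.structureModule X) :=
  M1.isFP_of_isFinLocFree (M2.isFinLocFree_of_isInvertible isInvertible_structure)

theorem isFlatOver_structure [Flat f] : FlatMod.IsFlatOver f (Coh.structureModule X) :=
  DPerf.isFlatOver_of_isFlat f (KFlat.Sch.isFlat_of_isFinLocFree (M2.isFinLocFree_of_isInvertible isInvertible_structure))

section Fibre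

variable (s : S)

/-- The base change map of the structure sheaf to the fibre is surjective. -/
theorem epi_bc0_structure [IsProper f] (hsec : Function.Surjective (f.fiberToSpecResidueField s).appTop) :
    Epi (CohBC.bc0 f (S.fromSpecResidueField s) (f.fiberToSpecResidueField s) (f.fiberι s) (f.fiber_fac s)
      (Coh.structureModule X)) := by
  let O := Coh.structureModule X
  let g := S.fromSpecResidueField s
  let f' := f.fiberToSpecResidueField s
  let ι := f.fiberι s
  haveI : Subsingleton (Spec (S.residueField s)) := inferInstanceAs (Subsingleton (PrimeSpectrum (S.residueField s)))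
  rw [CBC10.epi_iff_surjective_top]
  intro z
  obtain ⟨r, hr⟩ := ((isGen_one (⊤ : X.Opens)).pullback ι (f' ⁻¹ᵁ ⊤) (le_refl _)).2 z
  obtain ⟨c, rfl⟩ := hsec r
  have eTop : (⊤ : (Spec (S.residueField s)).Opens) ≤ g ⁻¹ᵁ ⊤ := le_of_eq rfl
  refine ⟨c • res' g ((Scheme.Modules.pushforward f).obj O) eTop
    (show Γ((Scheme.Modules.pushforward f).obj O, ⊤) from one (f ⁻¹ᵁ ⊤)), ?_⟩
  rw [Scheme.Modules.Hom.app_smul, CBC10.bc0_res']
  exact hr

/-- The first cokernel of a computing complex is free at `s`. -/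
theorem freeAt_neg_one [IsProper f] (hsec : Function.Surjective (f.fiberToSpecResidueField s).appTop)
    {V : S.Opens} (M : Model f (Coh.structureModule X) V) (hs : s ∈ V) : M.FreeAt (-1) s := by
  haveI : Coh.IsQCoh (Coh.structureModule X) := M1.isQCoh_structureModule X
  exact (M.epi_fibre0_iff hs).1 (epi_bc0_structure f s hsec)

/-- Near `s` a model with flat cokernels in degrees `-1` and `-2`. -/
theorem exists_model_flat [IsProper f] [Flat f] [LocallyOfFinitePresentation f] [HasInjectiveResolutions X.Modules]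
    (hdim : topologicalKrullDim ↥(f.fiber s) ≤ 1)
    (hsec : Function.Surjective (f.fiberToSpecResidueField s).appTop) :
    ∃ (V : S.Opens) (M : Model f (Coh.structureModule X) V), s ∈ V ∧ M.FlatCok (-1) ∧ M.FlatCok (-2) := by
  haveI hq : Coh.IsQCoh (Coh.structureModule X) := M1.isQCoh_structureModule X
  obtain ⟨V₀, -, M₀, hsV₀⟩ := CBC10.exists_model_at f (Coh.structureModule X) isFP_structure
    (isFlatOver_structure f) (U := ⊤) (s := s) trivial
  obtain ⟨V₁, -, M₁, hsV₁, h2, -, -, -⟩ := M₀.exists_zero_nhd hq hsV₀ 2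
    (CBC10.subsingleton_fiberH_of_dim (d := 1) s (by simpa using hdim) Nat.one_lt_two)
  have h2' : M₁.FlatCok (-2) := by simpa using h2
  obtain ⟨V, -, M, hsV, hflat⟩ := CBC10.exists_flat_model M₁ hsV₁ [-1, -2] (fun n hn => by
    rcases List.mem_cons.1 hn with rfl | hn
    · exact freeAt_neg_one f s hsec M₁ hsV₁
    · obtain rfl : n = -2 := by simpa using hn
      exact M₁.freeAt_of_flatCok h2' hsV₁)
  exact ⟨V, M, hsV, hflat _ (by simp), hflat _ (by simp)⟩

end Fibre

section Global

variable [IsProper f] [Flat f] [LocallyOfFinitePresentation f]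

/-- `R¹ f_* O_X` is finite locally free. -/
theorem isFinLocFree_R1 [HasInjectiveResolutions X.Modules]
    (hdim : ∀ s : S, topologicalKrullDim ↥(f.fiber s) ≤ 1)
    (hsec : ∀ s : S, Function.Surjective (f.fiberToSpecResidueField s).appTop) :
    FlatMod.IsFinLocFree ((Coh.Rpush f 1).obj (Coh.structureModule X)) := by
  haveI hq : Coh.IsQCoh (Coh.structureModule X) := M1.isQCoh_structureModule X
  refine CBC10.isFinLocFree_of_models 1 fun s => ?_
  obtain ⟨V, M, hsV, h1, h2⟩ := exists_model_flat f s (hdim s) (hsec s)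
  exact ⟨V, M, hsV, by simpa using h1, by simpa using h2⟩

/-- `R^q f_* O_X` vanishes above the relative dimension. -/
theorem isZero_Rq [HasInjectiveResolutions X.Modules] {d : ℕ}
    (hdim : ∀ s : S, topologicalKrullDim ↥(f.fiber s) ≤ d) {q : ℕ} (hq : d < q) :
    IsZero ((Coh.Rpush f q).obj (Coh.structureModule X)) := by
  haveI hqc : Coh.IsQCoh (Coh.structureModule X) := M1.isQCoh_structureModule X
  have key : ∀ s : S, ∃ V : S.Opens, s ∈ V ∧
      IsZero (((Coh.Rpush f q).obj (Coh.structureModule X)).restrict V.ι) := fun s => by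
    obtain ⟨V₀, -, M₀, hsV₀⟩ := CBC10.exists_model_at f (Coh.structureModule X) isFP_structure
      (isFlatOver_structure f) (U := ⊤) (s := s) trivial
    obtain ⟨V, -, M, hsV, -, -, hz, -⟩ := M₀.exists_zero_nhd hqc hsV₀ q
      (CBC10.subsingleton_fiberH_of_dim s (hdim s) hq)
    exact ⟨V, hsV, CBC10.isZero_restrict_of_models q V fun y hy => ⟨V, M, hy, le_rfl, hz⟩⟩
  choose V hsV hz using key
  exact DPerf.isZero_of_cover V (fun s => ⟨s, hsV s⟩) hz

/-- `O_S ⟶ f_* O_X` is bijective near a point where the functions on the fibre are the residue field. -/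
theorem exists_nhd_bijective_app (s : S) (hsec : Function.Bijective (f.fiberToSpecResidueField s).appTop) :
    ∃ U : S.Opens, s ∈ U ∧ ∀ V : S.Opens, V ≤ U → Function.Bijective (f.app V) := by
  haveI : HasInjectiveResolutions X.Modules := CohFound.hasInjectiveResolutions_modules X
  let O := Coh.structureModule X
  haveI hOq : Coh.IsQCoh O := M1.isQCoh_structureModule X
  have h : IsPullback (f.fiberι s) (f.fiberToSpecResidueField s) f (S.fromSpecResidueField s) :=
    IsPullback.of_hasPullback _ _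
  let g := S.fromSpecResidueField s
  let f' := f.fiberToSpecResidueField s
  let ι := f.fiberι s
  let pF := (Scheme.Modules.pushforward f).obj O
  let T := (Scheme.Modules.pushforward f').obj ((Scheme.Modules.pullback ι).obj O)
  let β := CohBC.bc0 f g f' ι h.w O
  haveI : Subsingleton (Spec (S.residueField s)) := inferInstanceAs (Subsingleton (PrimeSpectrum (S.residueField s)))
  have eTop : ∀ {V : S.Opens}, s ∈ V → (⊤ : (Spec (S.residueField s)).Opens) ≤ g ⁻¹ᵁ V := fun {V} hV z _ => by
    show g z ∈ V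
    rw [S.fromSpecResidueField_apply]
    exact hV
  let u : Γ(T, ⊤) := res' ι O (le_refl (ι ⁻¹ᵁ ⊤) : f' ⁻¹ᵁ ⊤ ≤ ι ⁻¹ᵁ ⊤) (one ⊤)
  have hu : Function.Bijective fun c : Γ(Spec (S.residueField s), ⊤) => c • u := by
    have hgen := (isGen_one (⊤ : X.Opens)).pullback ι
    exact (hgen (f' ⁻¹ᵁ ⊤) (le_refl _)).comp hsec
  have hone : ∀ {V : S.Opens} (hV : s ∈ V),
      β.app ⊤ (res' g pF (eTop hV) (show Γ(pF, V) from one (f ⁻¹ᵁ V))) = u := by
    intro V hV
    rw [CBC10.bc0_res', ← mres_one (X := X) (le_top : f ⁻¹ᵁ V ≤ ⊤)]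
    exact res'_mres ι O le_top _ (one ⊤)
  obtain ⟨V₀, -, M₀, hsV₀⟩ := CBC10.exists_model_at f O isFP_structure (isFlatOver_structure f)
    (U := ⊤) (s := s) trivial
  obtain ⟨V', -, M', hsV', hflat⟩ := CBC10.exists_flat_model M₀ hsV₀ [-1] (by
    simpa using freeAt_neg_one f s hsec.2 M₀ hsV₀)
  haveI hβ : IsIso β := CBC10.isIso_bc0 h O fun z => ⟨V', M', eTop hsV' (Opens.mem_top z), hflat _ (by simp)⟩
  have hlf : FlatMod.IsFinLocFree (pF.restrict V'.ι) :=
    CBC10.isFinLocFree_push_restrict V' fun t ht => ⟨V', M', ht, le_rfl, hflat _ (by simp)⟩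
  obtain ⟨n, D₀, e₀, hsD₀, he₀⟩ := PushUnit3.exists_isBas_nhd' hlf ⟨s, hsV'⟩
  let D := V'.ι ''ᵁ D₀
  let E : Fin n → Γ(pF, D) := fun i => e₀ i
  have he : IsBas pF D E := isBas_of_restrict V'.ι pF he₀
  have hsD : s ∈ D := ⟨⟨s, hsV'⟩, hsD₀, rfl⟩
  obtain ⟨a, ha⟩ := (he D le_rfl).2 (show Γ(pF, D) from one (f ⁻¹ᵁ D))
  simp only [mres_id] at ha
  let K := Γ(Spec (S.residueField s), ⊤)
  haveI : Nontrivial K := (Scheme.ΓSpecIso (S.residueField s)).inv.hom.injective.nontrivial
  let ā : Fin n → K := fun i => g.appLE D ⊤ (eTop hsD) (a i)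
  let b : Fin n → Γ(T, ⊤) := fun i => β.app ⊤ (res' g pF (eTop hsD) (E i))
  have hb : Function.Bijective fun c : Fin n → K => ∑ i, c i • b i := by
    have h1 := AmpleFin18.isBas_pullback g he ⊤ (eTop hsD)
    have h2 := ConcreteCategory.bijective_of_isIso (β.app ⊤)
    have heq : (fun c : Fin n → K => ∑ i, c i • b i) =
        β.app ⊤ ∘ fun c : Fin n → K => ∑ i, c i • M1.mres _ (eTop hsD) (M2.pullSec g pF (E i)) := by
      funext c
      simp only [Function.comp_apply, map_sum]
      exact Finset.sum_congr rfl fun i _ => (Scheme.Modules.Hom.app_smul β _ _).symm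
    rw [heq]
    exact h2.comp h1
  have hab : ∑ i, ā i • b i = u := by
    rw [← hone hsD, ← ha]
    have hsum : res' g pF (eTop hsD) (∑ i, a i • E i) = ∑ i, ā i • res' g pF (eTop hsD) (E i) := by
      let φ : Γ(pF, D) →+ Γ((Scheme.Modules.pullback g).obj pF, ⊤) :=
        AddMonoidHom.mk' (res' g pF (eTop hsD)) (res'_add g pF (eTop hsD))
      show φ _ = _
      rw [map_sum]
      exact Finset.sum_congr rfl fun i _ => res'_smul g pF (eTop hsD) (a i) (E i)
    rw [hsum, map_sum]
    exact Finset.sum_congr rfl fun i _ => (Scheme.Modules.Hom.app_smul β _ _).symm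
  obtain ⟨hn, hunit⟩ := LiftFib11.isUnit_coord b hb u hu ā hab
  subst hn
  have hunit' : IsUnit (S.presheaf.germ D s hsD (a 0)) := by
    let z : Spec (S.residueField s) := IsLocalRing.closedPoint (S.residueField s)
    have hz : g z = s := S.fromSpecResidueField_apply s z
    have hzD : g z ∈ D := hz.symm ▸ hsD
    have h3 : IsUnit (S.presheaf.germ D (g z) hzD (a 0)) := by
      refine isUnit_of_map_unit (g.stalkMap z).hom _ ?_
      rw [Scheme.Hom.germ_stalkMap_apply g D z hzD (a 0)]
      have h4 := hunit.map ((Spec (S.residueField s)).presheaf.germ ⊤ z trivial).hom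
      simp only [ā, Scheme.Hom.appLE, CommRingCat.comp_apply] at h4
      rwa [TopCat.Presheaf.germ_res_apply] at h4
    rw [← Scheme.mem_basicOpen] at h3 ⊢
    rwa [hz] at h3
  refine ⟨S.basicOpen (a 0), by rwa [Scheme.mem_basicOpen], fun V hV => ?_⟩
  have hVD : V ≤ D := hV.trans (S.basicOpen_le _)
  have ha0 : IsUnit (ores hVD (a 0)) := by
    have h1 := (RingedSpace.isUnit_res_basicOpen S.toRingedSpace (a 0)).map (ores hV).hom
    change IsUnit (ores hV (ores (S.basicOpen_le (a 0)) (a 0))) at h1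
    rwa [ores_ores] at h1
  have hkey : ((fun c : Fin 1 → Γ(S, V) => ∑ i, c i • M1.mres pF hVD (E i)) ∘
      fun r : Γ(S, V) => fun i : Fin 1 => r * ores hVD (a i)) = fun r => (f.app V r : Γ(X, f ⁻¹ᵁ V)) := by
    funext r
    have h1 : (∑ i, ores hVD (a i) • M1.mres pF hVD (E i)) = (show Γ(pF, V) from one (f ⁻¹ᵁ V)) := by
      rw [← mres_sum_smul, ha]
      exact mres_one (X := X) (f.preimage_mono hVD)
    simp only [Function.comp_apply, mul_smul, ← Finset.smul_sum, h1]
    exact mul_one (f.app V r)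
  have hcomp : Function.Bijective ((fun c : Fin 1 → Γ(S, V) => ∑ i, c i • M1.mres pF hVD (E i)) ∘
      fun r : Γ(S, V) => fun i : Fin 1 => r * ores hVD (a i)) := by
    refine (he V hVD).comp ?_
    have : (fun r : Γ(S, V) => fun i : Fin 1 => r * ores hVD (a i)) =
        (Equiv.funUnique (Fin 1) Γ(S, V)).symm ∘ fun r => r * ores hVD (a 0) := by
      funext r i
      rw [Subsingleton.elim i 0]
      rfl
    rw [this]
    exact (Equiv.bijective _).comp ha0.unit.mulRight_bijective
  rw [hkey] at hcomp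
  exact hcomp

/-- `O_S = f_* O_X`. -/
theorem bijective_app (hsec : ∀ s : S, Function.Bijective (f.fiberToSpecResidueField s).appTop) (V : S.Opens) :
    Function.Bijective (f.app V) := by
  choose U hsU hU using fun s => exists_nhd_bijective_app f s (hsec s)
  refine AffGrp19.bijective_app_of_isBasis f
    (fun p : {W : S.Opens // ∃ s, W ≤ U s} => p.1) ?_ (fun p => ?_) V
  · refine Opens.isBasis_iff_nbhd.2 fun {W x} hxW => ?_
    exact ⟨W ⊓ U x, ⟨⟨W ⊓ U x, x, inf_le_right⟩, rfl⟩, ⟨hxW, hsU x⟩, inf_le_left⟩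
  · obtain ⟨W, s, hW⟩ := p
    exact hU s W hW

variable {f}

/-- `O_{S'} = f'_* O_{X'}` after any base change. -/
theorem bijective_app_of_isPullback (hdim : ∀ s : S, topologicalKrullDim ↥(f.fiber s) ≤ 1)
    (hsec : ∀ s : S, Function.Bijective (f.fiberToSpecResidueField s).appTop)
    {X' S' : Scheme.{u}} {g' : X' ⟶ X} {f' : X' ⟶ S'} {g : S' ⟶ S} (h : IsPullback g' f' f g) (W : S'.Opens) :
    Function.Bijective (f'.app W) := by
  haveI : HasInjectiveResolutions X.Modules := CohFound.hasInjectiveResolutions_modules X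
  let O := Coh.structureModule X
  haveI hOq : Coh.IsQCoh O := M1.isQCoh_structureModule X
  let pF := (Scheme.Modules.pushforward f).obj O
  let β := CohBC.bc0 f g f' g' h.w O
  haveI : IsIso β := CBC10.isIso_bc0 h O fun z => by
    obtain ⟨V, M, hV, h1, -⟩ := exists_model_flat f (g z) (hdim _) (hsec _).2
    exact ⟨V, M, hV, h1⟩
  have hgen : Twist.IsGen pF ⊤ (show Γ(pF, ⊤) from one (f ⁻¹ᵁ ⊤)) := fun V hV => by
    have : (fun a : Γ(S, V) => a • M1.mres pF hV (show Γ(pF, ⊤) from one (f ⁻¹ᵁ ⊤))) =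
        fun a => (f.app V a : Γ(X, f ⁻¹ᵁ V)) := by
      funext a
      rw [show M1.mres pF hV (show Γ(pF, ⊤) from one (f ⁻¹ᵁ ⊤)) = (show Γ(pF, V) from one (f ⁻¹ᵁ V)) from
        mres_one (X := X) (f.preimage_mono hV)]
      exact mul_one (f.app V a)
    rw [this]
    exact bijective_app f hsec V
  have hW : W ≤ g ⁻¹ᵁ ⊤ := le_top.trans_eq rfl
  let T := (Scheme.Modules.pushforward f').obj ((Scheme.Modules.pullback g').obj O)
  let u : Γ(T, W) := res' g' O (le_top.trans_eq rfl : f' ⁻¹ᵁ W ≤ g' ⁻¹ᵁ (f ⁻¹ᵁ ⊤)) (one (f ⁻¹ᵁ ⊤))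
  have hβ : β.app W (res' g pF hW (show Γ(pF, ⊤) from one (f ⁻¹ᵁ ⊤))) = u := CBC10.bc0_res' h.w O hW _
  have hu : Function.Bijective fun c : Γ(S', W) => c • u := by
    have heq : (fun c : Γ(S', W) => c • u) =
        β.app W ∘ fun c : Γ(S', W) => c • M1.mres _ hW (M2.pullSec g pF (show Γ(pF, ⊤) from one (f ⁻¹ᵁ ⊤))) := by
      funext c
      exact (congrArg (c • ·) hβ.symm).trans (Scheme.Modules.Hom.app_smul β _ _).symm
    rw [heq]
    exact (ConcreteCategory.bijective_of_isIso (β.app W)).comp (hgen.pullback g W hW)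
  have hu' := (isGen_one (f ⁻¹ᵁ (⊤ : S.Opens))).pullback g' (f' ⁻¹ᵁ W) (le_top.trans_eq rfl)
  exact (Function.Bijective.of_comp_iff' hu' (f'.app W)).1 hu

/-- `O_{S'} ⟶ f'_* O_{X'}` is an isomorphism after any base change. -/
theorem isIso_unitToPush (hdim : ∀ s : S, topologicalKrullDim ↥(f.fiber s) ≤ 1)
    (hsec : ∀ s : S, Function.Bijective (f.fiberToSpecResidueField s).appTop)
    {X' S' : Scheme.{u}} {g' : X' ⟶ X} {f' : X' ⟶ S'} {g : S' ⟶ S} (h : IsPullback g' f' f g) :
    IsIso (ClSub.unitToPush f') :=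
  Scheme.Modules.Hom.isIso_iff_isIso_app.2 fun W => (ConcreteCategory.isIso_iff_bijective _).2
    (bijective_app_of_isPullback hdim hsec h W)

end Global

/-- The rank of a free higher direct image is the rank of the cohomology of the fibre. -/
theorem fiberRank_eq_of_freeMod [IsProper f] [HasInjectiveResolutions X.Modules] {F : X.Modules} [hF : Coh.IsQCoh F]
    {V : S.Opens} (M : Model f F V) (p : ℕ) (hM : M.FlatCok (-(p : ℤ) - 1)) {s : S} (hs : s ∈ V) {U : S.Opens}
    (hsU : s ∈ U) {n : ℕ} (e : ((Coh.Rpush f p).obj F).restrict U.ι ≅ FlatMod.freeMod (↑U) n) :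
    CohIII.fiberRank f F p s = n := by
  obtain ⟨W, hW, hsW, hle⟩ := Opens.isBasis_iff_nbhd.1 S.isBasis_affineOpens (show s ∈ V ⊓ U from ⟨hs, hsU⟩)
  have hW' : IsAffineOpen (W : S.Opens) := hW
  let M' := M.restrict hF hW' (hle.trans inf_le_left)
  have hM' : M'.FlatCok (-(p : ℤ) - 1) := by
    letI := (S.presheaf.map (homOfLE (hle.trans inf_le_left)).op).hom.toAlgebra
    exact FlatCxLib.flat_cok_baseChange _ M.P _ hM
  obtain ⟨i⟩ := M'.computes.nonempty_rpush_iso hF p
  have hr : Set.range hW'.fromSpec ⊆ Set.range U.ι := by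
    rw [IsAffineOpen.range_fromSpec, Scheme.Opens.range_ι]; exact hle.trans inf_le_right
  let l := IsOpenImmersion.lift U.ι hW'.fromSpec hr
  let e' : ((Coh.Rpush f p).obj F).restrict hW'.fromSpec ≅ (tilde.functor (CommRingCat.of Γ(S, W))).obj
      (ModuleCat.of Γ(S, W) (ULift.{u} (Fin n) →₀ Γ(S, W))) :=
    (M1.restrictLiftIso _ U.ι hW'.fromSpec hr).symm ≪≫
    (Scheme.Modules.restrictFunctor l).mapIso (e ≪≫ M1.freeModFrIso _ _) ≪≫
      (M1.frRestrictIso l _).symm ≪≫ (M1.frTildeIso _).symm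
  let t := (tilde.isoTop _ ≪≫ moduleSpecΓFunctor.mapIso (i.symm ≪≫ e') ≪≫ (tilde.isoTop _).symm).toLinearEquiv
  let b : Module.Basis (Fin n) Γ(S, W) (FlatCxLib.H M'.P (-(p : ℤ))) :=
    (⟨t⟩ :
      Module.Basis (ULift.{u} (Fin n)) Γ(S, W) (FlatCxLib.H M'.P (-(p : ℤ)))).reindex Equiv.ulift
  let x := hW'.primeIdealOf ⟨s, hsW⟩
  haveI : Nontrivial Γ(S, W) := x.nontrivial
  have hd : CohIII.fiberRank f F p s = CohIII.dRank M'.P (-(p : ℤ)) x := M'.fiberRank_eq hF p ⟨s, hsW⟩
  rw [hd, FlatCxLib.dRank_eq_finrank M'.P _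
    ((FlatCxLib.preservesEpi_iff M'.P (sub_add_cancel (-(p : ℤ)) 1)).2 hM') x]
  exact (Module.finrank_eq_card_basis (b.baseChange x.asIdeal.ResidueField)).trans (Fintype.card_fin n)

/-- `R¹ f_* O_X` has rank the genus of the fibres. -/
theorem isFinLocFreeOfRank_R1 [IsProper f] [Flat f] [LocallyOfFinitePresentation f] [HasInjectiveResolutions X.Modules]
    (hdim : ∀ s : S, topologicalKrullDim ↥(f.fiber s) ≤ 1)
    (hsec : ∀ s : S, Function.Surjective (f.fiberToSpecResidueField s).appTop) {g : ℕ}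
    (hg : ∀ s : S, CohIII.fiberRank f (Coh.structureModule X) 1 s = g) :
    FlatMod.IsFinLocFreeOfRank g ((Coh.Rpush f 1).obj (Coh.structureModule X)) := fun s => by
  haveI hq : Coh.IsQCoh (Coh.structureModule X) := M1.isQCoh_structureModule X
  obtain ⟨U, n, hsU, ⟨e⟩⟩ := isFinLocFree_R1 f hdim hsec s
  obtain ⟨V, M, hsV, -, h2⟩ := exists_model_flat f s (hdim s) (hsec s)
  obtain rfl : n = g := (fiberRank_eq_of_freeMod f M 1 (by simpa using h2) hsV hsU e).symm.trans (hg s)
  exact ⟨U, hsU, ⟨e⟩⟩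

/-- A one-dimensional algebra of functions is the residue field. -/
theorem bijective_appTop_of_hRank {k : Type u} [Field k] {Z : Scheme.{u}} (q : Z ⟶ Spec (CommRingCat.of k))
    (h : Models.hRank k Z q (Coh.structureModule Z) 0 = 1) : Function.Bijective q.appTop := by
  letI : Z.Over (Spec (CommRingCat.of k)) := ⟨q⟩
  let O := Coh.structureModule Z
  let H := CurveCoh17.hh0 O
  have h1 : Module.finrank k (Coh.HH Z O 0) = 1 := h
  haveI : Nontrivial (Coh.HH Z O 0) := Module.nontrivial_of_finrank_eq_succ h1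
  let z := H.symm (one ⊤)
  have hz : z ≠ 0 := fun hz => by
    obtain ⟨a, b, hab⟩ := exists_pair_ne (Coh.HH Z O 0)
    have h10 : (one ⊤ : Γ(O, ⊤)) = 0 := by
      rw [← H.apply_symm_apply (one ⊤), show H.symm (one ⊤) = z from rfl, hz, map_zero]
    refine hab (H.injective ?_)
    have h10' : (1 : Γ(Z, ⊤)) = 0 := h10
    have hall : ∀ r : Γ(Z, ⊤), r = 0 := fun r => by rw [← one_mul r, h10', zero_mul]
    exact (hall (H a)).trans (hall (H b)).symm
  have hb := (finrank_eq_one_iff_of_nonzero' z hz).1 h1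
  have key : ∀ c : k, H (c • z) = (q.appTop ((Scheme.ΓSpecIso (CommRingCat.of k)).inv c) : Γ(Z, ⊤)) := fun c => by
    refine (CurveCoh17.hh0_smul _ _).trans ?_
    rw [AddEquiv.apply_symm_apply]
    exact mul_one (M := Γ(Z, ⊤)) _
  have hc : Function.Bijective fun c : k => (q.appTop ((Scheme.ΓSpecIso (CommRingCat.of k)).inv c) : Γ(Z, ⊤)) := by
    refine ⟨fun a b hab => ?_, fun r => ?_⟩
    · by_contra hne
      refine hz ((smul_eq_zero_iff_right (sub_ne_zero.2 hne)).1 ?_)
      rw [sub_smul, sub_eq_zero]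
      exact H.injective ((key a).trans (hab.trans (key b).symm))
    · obtain ⟨c, hc⟩ := hb (H.symm r)
      exact ⟨c, (key c).symm.trans ((congrArg H hc).trans (H.apply_symm_apply _))⟩
  exact (Function.Bijective.of_comp_iff _
    (ConcreteCategory.bijective_of_isIso (Scheme.ΓSpecIso (CommRingCat.of k)).inv)).1 hc

/-- Functions on the fibre of a proper flat family with geometrically connected and reduced fibre. -/
theorem bijective_appTop_fiber [IsProper f] [LocallyOfFinitePresentation f] (s : S)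
    [GeometricallyConnected (f.fiberToSpecResidueField s)] [GeometricallyReduced (f.fiberToSpecResidueField s)] :
    Function.Bijective (f.fiberToSpecResidueField s).appTop := by
  have sq : IsPullback (f.fiberι s) (f.fiberToSpecResidueField s) f (S.fromSpecResidueField s) :=
    IsPullback.of_hasPullback _ _
  haveI : IsProper (f.fiberToSpecResidueField s) := MorphismProperty.of_isPullback (P := @IsProper) sq inferInstance
  haveI : LocallyOfFinitePresentation (f.fiberToSpecResidueField s) :=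
    MorphismProperty.of_isPullback (P := @LocallyOfFinitePresentation) sq inferInstance
  exact GrpOmega.bijective_app_of_geometrically (f.fiberToSpecResidueField s) ⊤

end Groth.Agent.CurveR1_10
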