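import Mathlib.Topology.KrullDimension
import Mathlib.Topology.Sober

/-!
# Dimension from irreducible components
-/

universe u

open TopologicalSpace

namespace Groth.Agent.CurveR1_10

/-- The dimension of a space is at most the bound of the dimensions of its irreducible components. -/
theorem topologicalKrullDim_le_of_components {T : Type u} [TopologicalSpace T] {d : WithBot ℕ∞}
    (h : ∀ Z ∈ irreducibleComponents T, topologicalKrullDim Z ≤ d) : topologicalKrullDim T ≤ d := by
  refine iSup_le fun p => ?_
  obtain ⟨C, hC, hsub⟩ := exists_mem_irreducibleComponents_subset_of_isIrreducible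
    (p.last : Set T) p.last.isIrreducible'
  have hle : ∀ i, (p i : Set T) ⊆ C := fun i =>
    (SetLike.coe_subset_coe.2 (p.monotone (Fin.le_last i))).trans hsub
  have hs : ∀ i : Fin p.length, p i.castSucc < p i.succ := fun i => p.step i
  let q : LTSeries (IrreducibleCloseds C) :=
    { length := p.length
      toFun := fun i => ⟨(Subtype.val : C → T) ⁻¹' (p i : Set T), by
        refine ⟨?_, ?_⟩
        · obtain ⟨x, hx⟩ := (p i).isIrreducible'.nonempty
          exact ⟨⟨x, hle i hx⟩, hx⟩
        · rintro U V hU hV ⟨x, hx, hxU⟩ ⟨y, hy, hyV⟩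
          obtain ⟨U', hU', rfl⟩ := isOpen_induced_iff.1 hU
          obtain ⟨V', hV', rfl⟩ := isOpen_induced_iff.1 hV
          obtain ⟨z, hz, hzU, hzV⟩ := (p i).isIrreducible'.isPreirreducible U' V' hU' hV'
            ⟨x.1, hx, hxU⟩ ⟨y.1, hy, hyV⟩
          exact ⟨⟨z, hle i hz⟩, hz, hzU, hzV⟩, (p i).isClosed'.preimage continuous_subtype_val⟩
      step := fun i => by
        show IrreducibleCloseds.mk _ _ _ < IrreducibleCloseds.mk _ _ _
        refine lt_of_le_not_ge (SetLike.coe_subset_coe.1 fun x (hx : x.1 ∈ (p i.castSucc : Set T)) =>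
          (show x.1 ∈ (p i.succ : Set T) from SetLike.le_def.1 (hs i).le hx)) fun hge => ?_
        exact (hs i).not_ge (SetLike.le_def.2 fun x hx => SetLike.le_def.1 hge (x := ⟨x, hle _ hx⟩) hx) }
  exact le_trans (Order.LTSeries.length_le_krullDim q) (h C hC)

end Groth.Agent.CurveR1_10
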